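import Mathlib
import Cfsg.Agent.Lib.H28.M12Simple
import Cfsg.Agent.Lib.H28.KeyOrbit
import Cfsg.Agent.Lib.H28.SextetKeys

/-!
# Hexads on the standard dodecad, via masks
-/

set_option autoImplicit false
set_option linter.style.haveILetI false

open scoped Pointwise
open Cfsg

namespace Cfsg.Agent.Lib.H5.Quartet

open Cfsg.Agent.Lib.H28

theorem ptsMask_and (a b : ℕ) : ptsMask (a &&& b) = ptsMask a ∩ ptsMask b := by
  ext p
  rw [Finset.mem_inter, mem_ptsMask, mem_ptsMask, mem_ptsMask, Nat.testBit_and, Bool.and_eq_true]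

theorem ptsMask_two_pow {k : ℕ} (hk : k < 24) : ptsMask (2 ^ k) = {gPt k} := by
  ext p
  rw [mem_ptsMask, Nat.testBit_two_pow, decide_eq_true_eq, Finset.mem_singleton]
  constructor
  · intro h
    rw [h, gPt_gIdx]
  · intro h
    rw [h, gIdx_gPt hk]

theorem ptsMask_subset_of_and {a b : ℕ} (h : a &&& b = a) : ptsMask a ⊆ ptsMask b := by
  rw [← h, ptsMask_and]
  exact Finset.inter_subset_right

/-- the mask of a set of points -/
def maskOfSet (s : Finset GolayPt) : ℕ := Nat.ofBits (fun i : Fin 24 => decide (gPt i.val ∈ s))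

theorem maskOfSet_lt (s : Finset GolayPt) : maskOfSet s < 2 ^ 24 := Nat.ofBits_lt_two_pow _

theorem ptsMask_maskOfSet (s : Finset GolayPt) : ptsMask (maskOfSet s) = s := by
  ext p
  rw [mem_ptsMask]
  unfold maskOfSet
  rw [Nat.testBit_ofBits_lt _ _ (gIdx_lt p), decide_eq_true_eq, gPt_gIdx]

theorem and_eq_of_ptsMask_subset {a b : ℕ} (ha : a < 2 ^ 24) (h : ptsMask a ⊆ ptsMask b) :
    a &&& b = a := by
  apply ptsMask_inj (lt_of_le_of_lt Nat.and_le_left ha) ha
  rw [ptsMask_and]
  exact Finset.inter_eq_left.mpr h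

/-- a subset of a mask set is a mask set -/
theorem exists_submask {s : Finset GolayPt} {m : ℕ} (h : s ⊆ ptsMask m) :
    ∃ a, a < 2 ^ 24 ∧ a &&& m = a ∧ ptsMask a = s := by
  refine ⟨maskOfSet s, maskOfSet_lt s, ?_, ptsMask_maskOfSet s⟩
  apply and_eq_of_ptsMask_subset (maskOfSet_lt s)
  rw [ptsMask_maskOfSet]
  exact h

/-! ### Hexads -/

/-- the masks of the hexads on the standard dodecad -/
def hexMasks0 : List ℕ := [336704, 340240, 275024, 70480, 340488, 267080, 78152, 13080, 74328, 270680, 331864, 328472, 78404, 332100, 275204, 332308, 74516, 262996, 12628, 335956, 336140, 70412, 274508, 328268, 9036, 77852, 266524, 270876, 65884, 4700, 332546, 340034, 13122, 271122, 328274, 74066, 78354, 266578, 74506, 274698, 70218, 328010, 270922, 335898, 266778, 69914, 12378, 858, 336390, 78086, 270662, 266822, 66374, 274454, 4886, 327958, 69718, 8790, 12814, 262926, 4430, 73806, 331790, 66078, 262238, 8478, 78593, 274753, 332353, 336401, 267025, 77905, 328017, 9041, 332041, 271113, 335945,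 66377, 12873, 70169, 74009, 262745, 4441, 274457, 328453, 339973, 270917, 74053, 4933, 12821, 270613, 266325, 66133, 69909, 266765, 12557, 69709, 74253, 262477, 327709, 797, 8285, 274947, 74307, 262979, 69955, 336131, 331795, 12563, 66323, 4691, 270419, 77835, 328203, 266315, 8523, 4875, 8731, 262427, 65627, 70151, 266503, 8967, 327751, 12359, 73751, 343, 262679, 270351, 65807, 591, 4127]

theorem hexMasks0_spec :
    (octMasks.map (fun m => m &&& dod0)).filter (fun m => popc m == 6) = hexMasks0 := by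
  decide +kernel

/-- the hexads as a bit set -/
def hexBits : ℕ := hexMasks0.foldl (fun acc m => acc ||| 2 ^ m) 0

def isHex (m : ℕ) : Bool := hexBits.testBit m

theorem testBit_foldl_or (l : List ℕ) (acc m : ℕ) :
    (l.foldl (fun acc m => acc ||| 2 ^ m) acc).testBit m = true ↔ acc.testBit m = true ∨ m ∈ l := by
  induction l generalizing acc with
  | nil => simp
  | cons a l ih =>
    rw [List.foldl_cons, ih, Nat.testBit_or, Bool.or_eq_true, Nat.testBit_two_pow, decide_eq_true_eq,
      List.mem_cons]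
    constructor
    · rintro ((h | h) | h)
      · exact Or.inl h
      · exact Or.inr (Or.inl h.symm)
      · exact Or.inr (Or.inr h)
    · rintro (h | h | h)
      · exact Or.inl (Or.inl h)
      · exact Or.inl (Or.inr h.symm)
      · exact Or.inr h

theorem isHex_iff {m : ℕ} : isHex m = true ↔ m ∈ hexMasks0 := by
  unfold isHex hexBits
  rw [testBit_foldl_or]
  simp

theorem hexMasks0_lt : hexMasks0.all (fun m => decide (m < 2 ^ 24) && (m &&& dod0 == m)) = true := by
  decide +kernel

theorem lt_of_isHex {m : ℕ} (h : isHex m = true) : m < 2 ^ 24 := by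
  rw [isHex_iff] at h
  have := List.all_eq_true.mp hexMasks0_lt m h
  rw [Bool.and_eq_true, decide_eq_true_eq] at this
  exact this.1

theorem and_dod0_of_isHex {m : ℕ} (h : isHex m = true) : m &&& dod0 = m := by
  rw [isHex_iff] at h
  have := List.all_eq_true.mp hexMasks0_lt m h
  rw [Bool.and_eq_true, beq_iff_eq] at this
  exact this.2

theorem mem_hexadsOn_of_isHex {m : ℕ} (h : isHex m = true) :
    ptsMask m ∈ hexadsOn (ptsMask dod0) := by
  rw [isHex_iff, ← hexMasks0_spec] at h
  rw [List.mem_filter, List.mem_map, beq_iff_eq] at h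
  obtain ⟨⟨o, ho, rfl⟩, h6⟩ := h
  refine ⟨?_, ptsMask o, ptsMask_mem_octads ho, ?_⟩
  · rw [card_ptsMask]
    exact h6
  · rw [ptsMask_and]

theorem exists_isHex_of_mem_hexadsOn {h : Finset GolayPt} (hh : h ∈ hexadsOn (ptsMask dod0)) :
    ∃ m, isHex m = true ∧ ptsMask m = h := by
  obtain ⟨h6, o, ho, rfl⟩ := hh
  obtain ⟨mo, hmo, rfl⟩ := exists_octMask ho
  refine ⟨mo &&& dod0, ?_, ptsMask_and _ _⟩
  rw [isHex_iff, ← hexMasks0_spec]
  rw [List.mem_filter, List.mem_map, beq_iff_eq]
  refine ⟨⟨mo, hmo, rfl⟩, ?_⟩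
  rw [← card_ptsMask, ptsMask_and]
  exact h6

theorem subset_of_mem_hexadsOn {d h : Finset GolayPt} (hh : h ∈ hexadsOn d) : h ⊆ d := by
  obtain ⟨-, o, -, rfl⟩ := hh
  exact Finset.inter_subset_right

/-! ### Transport -/

theorem smul_mem_hexadsOn {g : Equiv.Perm GolayPt} (hg : g ∈ M24) {d h : Finset GolayPt}
    (hh : h ∈ hexadsOn d) : g • h ∈ hexadsOn (g • d) := by
  obtain ⟨h6, o, ho, rfl⟩ := hh
  refine ⟨?_, g • o, smul_mem_octads hg ho, ?_⟩
  · rw [Finset.card_smul_finset]
    exact h6
  · rw [Finset.smul_finset_inter]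

theorem smul_mem_quartets {g : Equiv.Perm GolayPt} (hg : g ∈ M24) {d : Finset GolayPt}
    {Q : Finset (Finset GolayPt)} (hQ : Q ∈ quartets d) : g • Q ∈ quartets (g • d) := by
  obtain ⟨h4, h3, hp⟩ := hQ
  refine ⟨?_, ?_, ?_⟩
  · rw [Finset.card_smul_finset]
    exact h4
  · intro t ht
    rw [Finset.mem_smul_finset] at ht
    obtain ⟨t', ht', rfl⟩ := ht
    refine ⟨?_, ?_⟩
    · rw [Finset.card_smul_finset]
      exact (h3 t' ht').1
    · exact Finset.smul_finset_subset_smul_finset (h3 t' ht').2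
  · intro t ht u hu htu
    rw [Finset.mem_smul_finset] at ht hu
    obtain ⟨t', ht', rfl⟩ := ht
    obtain ⟨u', hu', rfl⟩ := hu
    have hne : t' ≠ u' := fun h => htu (by rw [h])
    rw [← Finset.smul_finset_union]
    exact smul_mem_hexadsOn hg (hp t' ht' u' hu' hne)

theorem mem_quartets_smul_iff {g : Equiv.Perm GolayPt} (hg : g ∈ M24) {d : Finset GolayPt}
    {Q : Finset (Finset GolayPt)} : g • Q ∈ quartets (g • d) ↔ Q ∈ quartets d := by
  constructor
  · intro h
    have := smul_mem_quartets (M24.inv_mem hg) h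
    rwa [inv_smul_smul, inv_smul_smul] at this
  · exact smul_mem_quartets hg

end Cfsg.Agent.Lib.H5.Quartet
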