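import Mathlib
import Cfsg.Agent.Lib.H5.Quartet.Hexads

/-!
# The table of the `220` quartets of the standard dodecad
-/

set_option autoImplicit false
set_option linter.style.haveILetI false

open scoped Pointwise
open Cfsg

namespace Cfsg.Agent.Lib.H5.Quartet

open Cfsg.Agent.Lib.H28

/-- the keys of the quartets of the standard dodecad, in chunks of 64 -/
def quartKs : List (List (List ℕ)) := [
  [[7, 336, 70144, 270344], [7, 584, 73744, 266496], [7, 4120, 8960, 327744], [7, 12352, 65800, 262672], [11, 580, 77824, 262416], [11, 4116, 8512, 328192], [11, 4864, 65616, 270340], [11, 8720, 65796, 266304], [13, 578, 12544, 327696], [13, 784, 69696, 270338], [13, 4114, 74240, 262464], [13, 8272, 65794, 266752], [14, 577, 8464, 331776], [14, 4113, 73792, 262912], [14, 4416, 66064, 270337], [14, 12800, 65793, 262224], [19, 324, 8712, 331776], [19, 4108, 66304, 270400], [19, 4672, 73732, 262408], [19, 12544, 65608, 262660], [21, 322, 12800, 327688], [21, 776, 73730, 266304], [21, 4106, 66112, 270592], [21, 8264, 69888, 262658], [22, 321, 66056, 274432], [22, 4105, 8768, 327936],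 [22, 4864, 73729, 262216], [22, 8456, 69696, 262657], [25, 772, 65602, 274432], [25, 4102, 73984, 262720], [25, 4416, 8706, 327684], [25, 8260, 70144, 262402], [26, 832, 4101, 335872], [26, 8452, 65601, 266752], [26, 8705, 69888, 262212], [26, 12352, 66052, 262401], [28, 769, 77824, 262210], [28, 4099, 65856, 270848], [28, 4672, 8450, 327681], [28, 8257, 66050, 266496], [67, 276, 74240, 266248], [67, 524, 69888, 270352], [67, 4624, 8456, 327684], [67, 12292, 65560, 262912], [69, 274, 69640, 270848], [69, 522, 73984, 266256], [69, 4864, 8216, 327682], [69, 12290, 66064, 262408], [70, 273, 73736, 266752], [70, 521, 69648, 270592], [70, 4360, 8720, 327681], [70, 12289, 66304, 262168], [73, 518, 4368, 335872], [73, 8212, 66304, 266242], [73, 8450, 69636, 262672], [73, 12800, 65554, 262404], [74, 517, 12304, 327936], [74, 784, 73732, 266241], [74, 4356, 65553, 270848], [74, 8449, 70144, 262164], [76, 515, 65808, 274432], [76, 4354, 8209, 328192], [76, 4624, 73730, 262401], [76, 8960, 69633, 262162]],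
  [[81, 262, 77824, 262664], [81, 4360, 66052, 270338], [81, 4610, 8204, 327936], [81, 8960, 65546, 266244], [82, 261, 12296, 328192], [82, 776, 69636, 270337], [82, 4609, 73984, 262156], [82, 8708, 65545, 266496], [84, 259, 4616, 335872], [84, 8201, 69634, 262912], [84, 8706, 65800, 266241], [84, 12544, 66049, 262154], [88, 770, 8197, 331776], [88, 4353, 74240, 262150], [88, 4612, 65539, 270592], [88, 12290, 65796, 262657], [259, 8264, 66064, 266244], [259, 8708, 69696, 262168], [259, 12304, 65548, 262720], [261, 536, 73792, 266242], [261, 4672, 65546, 270352], [261, 8706, 69648, 262216], [262, 4168, 8705, 327696], [262, 4624, 65545, 270400], [262, 8216, 66112, 266241], [265, 532, 8258, 331776], [265, 4176, 65542, 270848], [265, 4610, 73744, 262212], [265, 12292, 66112, 262162], [266, 592, 65541, 274432], [266, 4164, 74240, 262161], [266, 4609, 8212, 327744], [266, 8257, 69648, 262660], [268, 529, 4162, 335872], [268, 8210, 70144, 262209], [268, 8768, 65539, 266256], [268, 12289, 65616, 262658], [273, 524, 12290, 327744], [273, 4168, 66050, 270340], [273, 8768, 69636,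 262154], [274, 584, 12289, 327684], [274, 4612, 73792, 262153], [274, 8204, 66049, 266304], [276, 521, 12352, 327682], [276, 4610, 65608, 270337], [276, 8202, 69633, 262720], [280, 517, 69634, 270400], [280, 578, 73729, 266244], [280, 4161, 8198, 328192], [280, 12800, 65604, 262147], [321, 4120, 73732, 262658], [321, 4612, 8202, 327696], [321, 8720, 69634, 262156], [322, 536, 69633, 270340], [322, 4108, 73744, 262657], [322, 8201, 66052, 266256], [324, 4106, 73729, 262672], [324, 4609, 65560, 270338], [324, 12304, 66050, 262153], [328, 530, 77824, 262149], [328, 4102, 66049, 270352], [328, 4113, 8708, 327682], [328, 8195, 65556, 266752], [336, 522, 12292, 327681]],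
  [[336, 4105, 73730, 262660], [336, 8705, 65548, 266242], [515, 4176, 8452, 327688], [515, 4360, 73792, 262164], [515, 8216, 69636, 262464], [517, 4416, 73736, 262162], [517, 8450, 65616, 266248], [518, 8272, 69633, 262408], [518, 8449, 65560, 266304], [518, 12296, 65856, 262161], [521, 4354, 73732, 262224], [521, 8210, 65856, 266244], [522, 4353, 65556, 270400], [522, 8209, 69696, 262404], [524, 4176, 73729, 262402], [524, 8512, 65554, 266241], [529, 8202, 65604, 266496], [529, 8512, 69640, 262150], [529, 12292, 65794, 262216], [530, 4161, 65548, 270592], [530, 4356, 8201, 327744], [530, 8260, 65793, 266248], [532, 4168, 73984, 262147], [532, 4354, 65601, 270344], [532, 12289, 65546, 262464], [536, 4164, 8195, 327936], [536, 12544, 65542, 262209], [577, 4114, 65800, 270340], [577, 4356, 73730, 262168], [577, 12296, 65556, 262402], [578, 4113, 65796, 270344], [578, 8212, 69640, 262401], [580, 4120, 65794, 270337], [580, 4353, 8210, 327688], [580, 8456, 65553, 266242], [584, 4116, 65793, 270338], [584, 8452, 69634, 262161], [592, 4099, 73736, 262404], [592, 4108, 8449,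 327682], [592, 8198, 69888, 262153], [769, 4106, 8272, 327684], [769, 4164, 65554, 270344], [769, 8198, 65608, 266256], [770, 4105, 65604, 270352], [770, 4116, 73736, 262209], [770, 12352, 65553, 262156], [772, 4114, 8264, 327681], [772, 4161, 73744, 262154], [772, 8195, 69640, 262224], [776, 4099, 8260, 327696], [776, 12304, 65601, 262150], [784, 4102, 8257, 327688], [784, 12296, 65539, 262212], [832, 8204, 69648, 262147], [832, 8209, 65542, 266248], [832, 12290, 65545, 262164], [4099, 8464, 66052, 262216], [4101, 8258, 65808, 262664], [4101, 8456, 66050, 262224], [4101, 8720, 65608, 262402], [4102, 8712, 65616, 262401], [4105, 8452, 66064, 262210], [4106, 8708, 65808, 262209], [4108, 8706, 65601, 262416]],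
  [[4113, 8450, 66056, 262212], [4114, 8449, 65604, 262664], [4116, 8705, 65602, 262408], [4120, 8258, 66049, 262404], [4161, 8712, 65794, 262164], [4162, 8197, 66056, 262416], [4162, 8216, 65793, 262660], [4162, 8960, 65556, 262153], [4164, 8464, 65545, 262658], [4168, 8210, 65541, 262912], [4176, 8202, 66304, 262149], [4353, 8204, 65602, 262672], [4354, 8768, 65560, 262149], [4356, 8272, 66056, 262147], [4360, 8197, 65554, 262720], [4368, 8195, 66112, 262156], [4368, 8260, 65546, 262657], [4368, 8712, 65541, 262210], [4416, 8212, 65539, 262664], [4609, 8264, 65542, 262416], [4610, 8512, 65541, 262168], [4612, 8209, 65800, 262210], [4616, 8198, 65553, 262464], [4616, 8257, 65796, 262162], [4616, 8464, 65602, 262149], [4624, 8197, 65856, 262154], [4672, 8201, 65808, 262150], [4864, 8258, 65548, 262161]]]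

/-- the flat list of keys -/
def quartList : List (List ℕ) := quartKs.flatten

theorem flatK_quartKs : flatK quartKs 220 = quartList := by decide +kernel

/-- the indices of the points of the standard dodecad -/
def d0Idx : List ℕ := [0, 1, 2, 3, 4, 6, 8, 9, 12, 13, 16, 18]

theorem mem_d0Idx_of_testBit : ∀ k < 24, dod0.testBit k = true → k ∈ d0Idx := by
  decide +kernel

theorem d0Idx_lt : ∀ k ∈ d0Idx, k < 24 := by decide

/-- the masks of the triples of the standard dodecad -/
def tripleMasks : List ℕ := [7, 11, 19, 67, 259, 515, 4099, 8195, 65539, 262147, 13, 21, 69, 261, 517, 4101, 8197, 65541, 262149, 25, 73, 265, 521, 4105, 8201, 65545, 262153, 81, 273, 529, 4113, 8209, 65553, 262161, 321, 577, 4161, 8257, 65601, 262209, 769, 4353, 8449, 65793, 262401, 4609, 8705, 66049, 262657, 12289, 69633, 266241, 73729, 270337, 327681, 14, 22, 70, 262, 518, 4102, 8198, 65542, 262150, 26, 74, 266, 522, 4106, 8202, 65546, 262154, 82, 274, 530, 4114, 8210, 65554, 262162, 322, 578, 4162, 8258, 65602, 262210, 770, 4354, 8450, 65794, 262402, 4610, 8706, 66050, 262658, 12290, 69634,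 266242, 73730, 270338, 327682, 28, 76, 268, 524, 4108, 8204, 65548, 262156, 84, 276, 532, 4116, 8212, 65556, 262164, 324, 580, 4164, 8260, 65604, 262212, 772, 4356, 8452, 65796, 262404, 4612, 8708, 66052, 262660, 12292, 69636, 266244, 73732, 270340, 327684, 88, 280, 536, 4120, 8216, 65560, 262168, 328, 584, 4168, 8264, 65608, 262216, 776, 4360, 8456, 65800, 262408, 4616, 8712, 66056, 262664, 12296, 69640, 266248, 73736, 270344, 327688, 336, 592, 4176, 8272, 65616, 262224, 784, 4368, 8464, 65808, 262416, 4624, 8720, 66064, 262672, 12304, 69648, 266256, 73744, 270352, 327696, 832, 4416, 8512, 65856, 262464, 4672, 8768, 66112, 262720, 12352, 69696, 266304, 73792, 270400, 327744, 4864, 8960, 66304, 262912, 12544, 69888, 266496, 73984, 270592, 327936, 12800, 70144, 266752, 74240, 270848, 328192, 77824, 274432, 331776, 335872]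

/-- membership test for lists of numbers -/
def elemN (a : ℕ) : List ℕ → Bool
  | [] => false
  | b :: bs => Nat.beq a b || elemN a bs

theorem mem_of_elemN {a : ℕ} : ∀ {l : List ℕ}, elemN a l = true → a ∈ l
  | [], h => by simp [elemN] at h
  | b :: bs, h => by
    unfold elemN at h
    rw [Bool.or_eq_true] at h
    rcases h with h | h
    · rw [Nat.eq_of_beq_eq_true h]
      exact List.mem_cons_self
    · exact List.mem_cons_of_mem _ (mem_of_elemN h)

theorem tripleMasks_complete_aux : d0Idx.all (fun i => d0Idx.all (fun j => d0Idx.all (fun k =>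
    i == j || i == k || j == k || elemN (2 ^ i ||| 2 ^ j ||| 2 ^ k) tripleMasks))) = true := by
  decide +kernel

theorem tripleMasks_complete {i j k : ℕ} (hi : i ∈ d0Idx) (hj : j ∈ d0Idx) (hk : k ∈ d0Idx)
    (hij : i ≠ j) (hik : i ≠ k) (hjk : j ≠ k) : (2 ^ i ||| 2 ^ j ||| 2 ^ k) ∈ tripleMasks := by
  have h := List.all_eq_true.mp (List.all_eq_true.mp (List.all_eq_true.mp
    tripleMasks_complete_aux i hi) j hj) k hk
  rw [Bool.or_eq_true, Bool.or_eq_true, Bool.or_eq_true, beq_iff_eq, beq_iff_eq, beq_iff_eq] at h
  rcases h with ((h | h) | h) | h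
  · exact absurd h hij
  · exact absurd h hik
  · exact absurd h hjk
  · exact mem_of_elemN h

theorem tripleMasks_ok :
    tripleMasks.all (fun m => decide (m < 2 ^ 24) && (m &&& dod0 == m) && (popc m == 3)) = true := by
  decide +kernel

theorem tripleMask_lt {m : ℕ} (hm : m ∈ tripleMasks) : m < 2 ^ 24 := by
  have := List.all_eq_true.mp tripleMasks_ok m hm
  rw [Bool.and_eq_true, Bool.and_eq_true, decide_eq_true_eq] at this
  exact this.1.1

/-- every triple of the standard dodecad is given by a mask of the list -/
theorem exists_tripleMask {t : Finset GolayPt} (ht : t ⊆ ptsMask dod0) (h3 : t.card = 3) :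
    ∃ m ∈ tripleMasks, ptsMask m = t := by
  obtain ⟨x, y, z, hxy, hxz, hyz, rfl⟩ := Finset.card_eq_three.mp h3
  have hidx : ∀ p ∈ ({x, y, z} : Finset GolayPt), gIdx p ∈ d0Idx := by
    intro p hp
    exact mem_d0Idx_of_testBit _ (gIdx_lt p) (mem_ptsMask.mp (ht hp))
  have hx := hidx x (by simp)
  have hy := hidx y (by simp)
  have hz := hidx z (by simp)
  refine ⟨_, tripleMasks_complete hx hy hz (fun h => hxy (gIdx_injective h))
    (fun h => hxz (gIdx_injective h)) (fun h => hyz (gIdx_injective h)), ?_⟩
  rw [ptsMask_or, ptsMask_or, ptsMask_two_pow (gIdx_lt x), ptsMask_two_pow (gIdx_lt y),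
    ptsMask_two_pow (gIdx_lt z), gPt_gIdx, gPt_gIdx, gPt_gIdx]
  ext p
  simp only [Finset.mem_union, Finset.mem_singleton, Finset.mem_insert]
  tauto

/-! ### Completing a pair of triples -/

/-- the triples forming a hexad with the given triple -/
def partners (m1 : ℕ) : List ℕ := tripleMasks.filter (fun m => isHex (m1 ||| m))

/-- the triples forming hexads with both given triples -/
def completion (m1 m2 : ℕ) : List ℕ := (partners m1).filter (fun m3 => isHex (m2 ||| m3))

def sortKey (l : List ℕ) : List ℕ := l.insertionSort (· ≤ ·)

/-- membership test for lists of keys -/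
def elemK (a : List ℕ) : List (List ℕ) → Bool
  | [] => false
  | b :: bs => (a == b) || elemK a bs

theorem mem_of_elemK {a : List ℕ} : ∀ {l : List (List ℕ)}, elemK a l = true → a ∈ l
  | [], h => by simp [elemK] at h
  | b :: bs, h => by
    unfold elemK at h
    rw [Bool.or_eq_true, beq_iff_eq] at h
    rcases h with h | h
    · rw [h]
      exact List.mem_cons_self
    · exact List.mem_cons_of_mem _ (mem_of_elemK h)

/-- search in the chunk whose last key is not smaller in the first entry -/
def lookupK (a : List ℕ) : List (List (List ℕ)) → Bool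
  | [] => false
  | c :: cs => if a.headD 0 ≤ (c.getLastD []).headD 0 then elemK a c || lookupK a cs else lookupK a cs

theorem mem_of_lookupK {a : List ℕ} : ∀ {Ks : List (List (List ℕ))}, lookupK a Ks = true → a ∈ Ks.flatten
  | [], h => by simp [lookupK] at h
  | c :: cs, h => by
    unfold lookupK at h
    rw [List.flatten_cons, List.mem_append]
    split_ifs at h
    · rw [Bool.or_eq_true] at h
      rcases h with h | h
      · exact Or.inl (mem_of_elemK h)
      · exact Or.inr (mem_of_lookupK h)
    · exact Or.inr (mem_of_lookupK h)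

def pairCheckB : Bool :=
  tripleMasks.all (fun m1 => (partners m1).all (fun m2 =>
    ((completion m1 m2).length == 2) && lookupK (sortKey (m1 :: m2 :: completion m1 m2)) quartKs))

theorem pairCheck : pairCheckB = true := by decide +kernel

/-- a key gives a quartet -/
def keyGood (k : List ℕ) : Bool :=
  keyOK k && (k.length == 4) && k.all (fun m => (popc m == 3) && (m &&& dod0 == m)) &&
    k.all (fun a => k.all (fun b => (a == b) || isHex (a ||| b)))

theorem quartList_good : quartList.all keyGood = true := by decide +kernel

end Cfsg.Agent.Lib.H5.Quartet
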