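import Mathlib
import Cfsg.Agent.Lib.H5.Quartet.Table

/-!
# Quartets of the standard dodecad are given by the table
-/

set_option autoImplicit false
set_option linter.style.haveILetI false

open scoped Pointwise
open Cfsg

namespace Cfsg.Agent.Lib.H5.Quartet

open Cfsg.Agent.Lib.H28

theorem isHex_of_union {a b : ℕ} (ha : a < 2 ^ 24) (hb : b < 2 ^ 24)
    (h : ptsMask a ∪ ptsMask b ∈ hexadsOn (ptsMask dod0)) : isHex (a ||| b) = true := by
  obtain ⟨m, hm, e⟩ := exists_isHex_of_mem_hexadsOn h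
  rw [← ptsMask_or] at e
  have := ptsMask_inj (lt_of_isHex hm) (Nat.or_lt_two_pow ha hb) e
  rw [← this]
  exact hm

theorem keyGood_of_mem {k : List ℕ} (hk : k ∈ quartList) : keyGood k = true :=
  List.all_eq_true.mp quartList_good k hk

theorem keyOK_of_mem {k : List ℕ} (hk : k ∈ quartList) : keyOK k = true := by
  have := keyGood_of_mem hk
  unfold keyGood at this
  rw [Bool.and_eq_true, Bool.and_eq_true, Bool.and_eq_true] at this
  exact this.1.1.1

/-- the keys of the table give quartets -/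
theorem decL_mem_quartets {k : List ℕ} (hk : k ∈ quartList) :
    decL k ∈ quartets (ptsMask dod0) := by
  have hg := keyGood_of_mem hk
  unfold keyGood at hg
  rw [Bool.and_eq_true, Bool.and_eq_true, Bool.and_eq_true, beq_iff_eq] at hg
  obtain ⟨⟨⟨hok, hlen⟩, h3⟩, hpair⟩ := hg
  have hlt : ∀ m ∈ k, m < 2 ^ 24 := by
    intro m hm
    unfold keyOK at hok
    rw [Bool.and_eq_true, List.all_eq_true] at hok
    have := hok.1 m hm
    rwa [decide_eq_true_eq] at this
  refine ⟨?_, ?_, ?_⟩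
  · rw [card_decL hok, hlen]
  · intro t ht
    obtain ⟨m, hm, rfl⟩ := mem_decL.mp ht
    have := List.all_eq_true.mp h3 m hm
    rw [Bool.and_eq_true, beq_iff_eq, beq_iff_eq] at this
    exact ⟨by rw [card_ptsMask]; exact this.1, ptsMask_subset_of_and this.2⟩
  · intro t ht u hu htu
    obtain ⟨a, ha, rfl⟩ := mem_decL.mp ht
    obtain ⟨b, hb, rfl⟩ := mem_decL.mp hu
    have := List.all_eq_true.mp (List.all_eq_true.mp hpair a ha) b hb
    rw [Bool.or_eq_true, beq_iff_eq] at this
    rcases this with h | h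
    · exact absurd (by rw [h]) htu
    · rw [← ptsMask_or]
      exact mem_hexadsOn_of_isHex h

theorem decL_sortKey (l : List ℕ) : decL (sortKey l) = decL l := by
  unfold decL sortKey
  apply List.toFinset_eq_of_perm
  exact (List.perm_insertionSort _ l).map _

theorem pairCheck_spec {m1 m2 : ℕ} (hm1 : m1 ∈ tripleMasks) (hm2 : m2 ∈ tripleMasks)
    (hh : isHex (m1 ||| m2) = true) :
    (completion m1 m2).length = 2 ∧ sortKey (m1 :: m2 :: completion m1 m2) ∈ quartList := by
  have h := pairCheck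
  unfold pairCheckB at h
  have h2 : m2 ∈ partners m1 := by
    unfold partners
    rw [List.mem_filter]
    exact ⟨hm2, hh⟩
  have := List.all_eq_true.mp (List.all_eq_true.mp h m1 hm1) m2 h2
  rw [Bool.and_eq_true, beq_iff_eq] at this
  exact ⟨this.1, mem_of_lookupK this.2⟩

/-- a quartet of the standard dodecad is determined by two of its triples -/
theorem quartet_eq_of_pair {Q : Finset (Finset GolayPt)} (hQ : Q ∈ quartets (ptsMask dod0))
    {m1 m2 : ℕ} (hm1 : m1 ∈ tripleMasks) (hm2 : m2 ∈ tripleMasks) (h1 : ptsMask m1 ∈ Q)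
    (h2 : ptsMask m2 ∈ Q) (hne : m1 ≠ m2) :
    sortKey (m1 :: m2 :: completion m1 m2) ∈ quartList ∧
      Q = decL (sortKey (m1 :: m2 :: completion m1 m2)) := by
  obtain ⟨h4, h3, hp⟩ := hQ
  have hl1 := tripleMask_lt hm1
  have hl2 := tripleMask_lt hm2
  have hne' : ptsMask m1 ≠ ptsMask m2 := fun h => hne (ptsMask_inj hl1 hl2 h)
  have hh : isHex (m1 ||| m2) = true := isHex_of_union hl1 hl2 (hp _ h1 _ h2 hne')
  obtain ⟨hlen, hmem⟩ := pairCheck_spec hm1 hm2 hh
  refine ⟨hmem, ?_⟩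
  rw [decL_sortKey]
  apply Finset.eq_of_subset_of_card_le
  · intro v hv
    rw [mem_decL]
    by_cases hv1 : v = ptsMask m1
    · exact ⟨m1, by simp, hv1.symm⟩
    by_cases hv2 : v = ptsMask m2
    · exact ⟨m2, by simp, hv2.symm⟩
    obtain ⟨m3, hm3, rfl⟩ := exists_tripleMask (h3 v hv).2 (h3 v hv).1
    have hl3 := tripleMask_lt hm3
    refine ⟨m3, ?_, rfl⟩
    rw [List.mem_cons, List.mem_cons]
    refine Or.inr (Or.inr ?_)
    unfold completion partners
    rw [List.mem_filter, List.mem_filter]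
    exact ⟨⟨hm3, isHex_of_union hl1 hl3 (hp _ h1 _ hv (Ne.symm hv1))⟩,
      isHex_of_union hl2 hl3 (hp _ h2 _ hv (Ne.symm hv2))⟩
  · rw [h4]
    unfold decL
    refine le_trans (List.toFinset_card_le _) ?_
    rw [List.length_map, List.length_cons, List.length_cons, hlen]

/-- every quartet of the standard dodecad is given by a key of the table -/
theorem exists_key_of_mem_quartets {Q : Finset (Finset GolayPt)}
    (hQ : Q ∈ quartets (ptsMask dod0)) : ∃ k ∈ quartList, decL k = Q := by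
  have h4 : 1 < Q.card := by rw [hQ.1]; norm_num
  obtain ⟨t, ht, u, hu, htu⟩ := Finset.one_lt_card.mp h4
  obtain ⟨m1, hm1, rfl⟩ := exists_tripleMask (hQ.2.1 t ht).2 (hQ.2.1 t ht).1
  obtain ⟨m2, hm2, rfl⟩ := exists_tripleMask (hQ.2.1 u hu).2 (hQ.2.1 u hu).1
  have hne : m1 ≠ m2 := fun h => htu (by rw [h])
  obtain ⟨hk, e⟩ := quartet_eq_of_pair hQ hm1 hm2 ht hu hne
  exact ⟨_, hk, e.symm⟩

/-- two disjoint triples of the standard dodecad whose union is a hexad lie in exactly one quartet -/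
theorem existsUnique_quartet_dod0 {t u : Finset GolayPt} (ht : t.card = 3) (hu : u.card = 3)
    (htu : Disjoint t u) (hh : t ∪ u ∈ hexadsOn (ptsMask dod0)) :
    ∃! Q : Finset (Finset GolayPt), Q ∈ quartets (ptsMask dod0) ∧ t ∈ Q ∧ u ∈ Q := by
  have hsub := subset_of_mem_hexadsOn hh
  obtain ⟨m1, hm1, rfl⟩ := exists_tripleMask (Finset.union_subset_left hsub) ht
  obtain ⟨m2, hm2, rfl⟩ := exists_tripleMask (Finset.union_subset_right hsub) hu
  have hne : m1 ≠ m2 := by
    rintro rfl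
    rw [disjoint_self, Finset.bot_eq_empty] at htu
    rw [htu] at ht
    simp at ht
  have hl1 := tripleMask_lt hm1
  have hl2 := tripleMask_lt hm2
  have hx : isHex (m1 ||| m2) = true := isHex_of_union hl1 hl2 hh
  obtain ⟨-, hmem⟩ := pairCheck_spec hm1 hm2 hx
  refine ⟨decL (sortKey (m1 :: m2 :: completion m1 m2)), ⟨decL_mem_quartets hmem, ?_, ?_⟩, ?_⟩
  · rw [decL_sortKey, mem_decL]
    exact ⟨m1, by simp, rfl⟩
  · rw [decL_sortKey, mem_decL]
    exact ⟨m2, by simp, rfl⟩
  · rintro Q ⟨hQ, h1, h2⟩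
    exact (quartet_eq_of_pair hQ hm1 hm2 h1 h2 hne).2

/-- **two disjoint triples of a dodecad whose union is a hexad lie in exactly one quartet** -/
theorem existsUnique_quartet {d : Finset GolayPt} (hd : d ∈ dodecads) {t u : Finset GolayPt}
    (ht : t.card = 3) (hu : u.card = 3) (htu : Disjoint t u) (hh : t ∪ u ∈ hexadsOn d) :
    ∃! Q : Finset (Finset GolayPt), Q ∈ quartets d ∧ t ∈ Q ∧ u ∈ Q := by
  obtain ⟨g, hg, rfl⟩ := exists_M24_smul_ptsMask_dod0 hd
  have hgi := M24.inv_mem hg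
  have hh' : g⁻¹ • t ∪ g⁻¹ • u ∈ hexadsOn (ptsMask dod0) := by
    have := smul_mem_hexadsOn hgi hh
    rwa [inv_smul_smul, Finset.smul_finset_union] at this
  obtain ⟨Q0, ⟨hQ0, ht0, hu0⟩, huniq⟩ := existsUnique_quartet_dod0
    (t := g⁻¹ • t) (u := g⁻¹ • u) (by rw [Finset.card_smul_finset]; exact ht)
    (by rw [Finset.card_smul_finset]; exact hu)
    (by
      rw [Finset.disjoint_iff_inter_eq_empty] at htu ⊢
      rw [← Finset.smul_finset_inter, htu, Finset.smul_finset_empty]) hh'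
  refine ⟨g • Q0, ⟨smul_mem_quartets hg hQ0, ?_, ?_⟩, ?_⟩
  · have := Finset.smul_mem_smul_finset (a := g) ht0
    rwa [smul_inv_smul] at this
  · have := Finset.smul_mem_smul_finset (a := g) hu0
    rwa [smul_inv_smul] at this
  · rintro Q ⟨hQ, h1, h2⟩
    have hQ' : g⁻¹ • Q ∈ quartets (ptsMask dod0) := by
      have := smul_mem_quartets hgi hQ
      rwa [inv_smul_smul] at this
    have := huniq (g⁻¹ • Q) ⟨hQ', Finset.smul_mem_smul_finset h1, Finset.smul_mem_smul_finset h2⟩
    rw [← this, smul_inv_smul]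

end Cfsg.Agent.Lib.H5.Quartet
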