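import Mathlib
import Cfsg.Agent.Lib.H5.Quartet.Basic
import Cfsg.Agent.Lib.H28.M24DodecadOrbits

/-!
# The dodecad stabilizer is transitive on the `220` quartets
-/

set_option autoImplicit false
set_option linter.style.haveILetI false

open scoped Pointwise
open Cfsg

namespace Cfsg.Agent.Lib.H5.Quartet

open Cfsg.Agent.Lib.H28

def cert12 : List (ℕ × ℕ × ℕ) := [(0, 0, 67), (0, 1, 101), (67, 0, 123), (67, 1, 169), (101, 0, 88), (101, 1, 57), (123, 0, 17), (123, 1, 213), (169, 0, 152), (169, 1, 47), (88, 0, 130), (88, 1, 38), (57, 0, 60), (57, 1, 218), (17, 0, 154), (17, 1, 177), (213, 0, 50), (213, 1, 171), (152, 0, 124), (152, 1, 158), (47, 0, 22), (47, 1, 56), (130, 0, 96), (130, 1, 24), (38, 0, 81), (38, 1, 33), (60, 0, 39), (60, 1, 197), (218, 0, 71), (218, 1, 191), (154, 1, 70), (177, 0, 157), (177, 1, 1), (50, 0, 72), (50, 1, 11), (171, 0, 107), (171, 1, 204), (124, 0, 166), (124, 1, 61), (158, 0, 208), (158, 1, 183), (22, 0, 164), (22, 1, 174), (56, 1, 119), (96,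 0, 201), (96, 1, 132), (24, 0, 186), (24, 1, 97), (81, 0, 175), (33, 0, 85), (33, 1, 27), (39, 0, 212), (197, 0, 162), (197, 1, 52), (71, 0, 91), (71, 1, 90), (191, 0, 83), (70, 0, 34), (70, 1, 92), (157, 1, 195), (1, 0, 66), (1, 1, 142), (72, 0, 196), (11, 0, 30), (107, 1, 40), (204, 0, 18), (204, 1, 78), (166, 0, 117), (166, 1, 149), (61, 1, 76), (208, 0, 126), (183, 1, 58), (164, 0, 181), (164, 1, 26), (174, 0, 82), (119, 0, 200), (132, 0, 179), (132, 1, 192), (186, 0, 145), (186, 1, 161), (97, 0, 160), (97, 1, 53), (85, 0, 13), (27, 0, 176), (27, 1, 98), (212, 0, 103), (212, 1, 19), (162, 0, 159), (52, 1, 129), (91, 0, 25), (91, 1, 187), (90, 0, 128), (90, 1, 116), (83, 1, 150), (92, 0, 189), (195, 0, 193), (195, 1, 5), (66, 1, 170), (142, 0, 198), (142, 1, 114), (196, 0, 133), (196, 1, 156), (30, 0, 105), (40, 0, 45), (18, 0, 190), (18, 1, 178), (117, 1, 29), (149, 0, 140), (149, 1, 3), (76, 0, 173), (76, 1, 136), (126, 1, 141), (58, 0, 62), (58, 1, 73), (181, 0, 43),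 (181, 1, 214), (26, 0, 15), (26, 1, 100), (82, 0, 112), (200, 0, 89), (200, 1, 44), (179, 0, 93), (192, 1, 32), (145, 0, 69), (161, 0, 95), (160, 0, 210), (53, 0, 8), (53, 1, 86), (13, 0, 79), (98, 0, 2), (103, 1, 180), (159, 1, 87), (129, 0, 111), (129, 1, 102), (25, 0, 138), (25, 1, 99), (128, 0, 139), (116, 1, 146), (150, 0, 41), (150, 1, 215), (189, 0, 49), (193, 0, 109), (5, 0, 54), (5, 1, 16), (170, 1, 14), (114, 0, 185), (133, 1, 65), (156, 0, 217), (156, 1, 75), (105, 0, 7), (105, 1, 113), (45, 0, 23), (190, 1, 211), (178, 0, 68), (178, 1, 118), (29, 0, 167), (29, 1, 63), (140, 1, 165), (173, 0, 35), (136, 0, 135), (136, 1, 147), (141, 1, 172), (62, 0, 37), (214, 0, 188), (15, 0, 77), (15, 1, 203), (112, 0, 134), (112, 1, 12), (44, 0, 21), (44, 1, 110), (210, 0, 115), (210, 1, 64), (8, 0, 31), (79, 0, 207), (79, 1, 59), (2, 1, 143), (139, 0, 148), (139, 1, 94), (146, 1, 51), (41, 0, 46), (215, 0, 209), (215, 1, 131), (49, 1, 10), (54, 0, 9), (185, 0, 144), (185, 1,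 4), (65, 0, 216), (65, 1, 168), (217, 1, 137), (23, 0, 219), (118, 0, 153), (167, 0, 6), (63, 0, 36), (63, 1, 206), (165, 0, 155), (165, 1, 163), (35, 0, 184), (35, 1, 42), (172, 1, 121), (12, 1, 106), (110, 0, 182), (64, 0, 202), (31, 0, 199), (207, 1, 127), (148, 1, 74), (46, 0, 20), (209, 0, 48), (131, 1, 205), (10, 1, 125), (9, 0, 28), (144, 0, 108), (168, 0, 104), (168, 1, 80), (153, 0, 151), (6, 0, 55), (163, 1, 120), (121, 0, 194), (74, 1, 84), (28, 0, 122)]

theorem cert12_ok : checkK (wordTis dodGenWords) quartKs 0 cert12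
    ((List.range 220).filter (fun i => (fun _ => true) (getK quartKs i))) = true := by
  decide +kernel

theorem exists_flatK_of_mem_quartets :
    ∀ y ∈ quartets (ptsMask dod0), ∃ k ∈ flatK quartKs 220, decL k = y := by
  intro y hy
  rw [flatK_quartKs]
  exact exists_key_of_mem_quartets hy

/-- the stabilizer of the standard dodecad is transitive on its quartets -/
theorem exists_smul_quartet_dod0 {Q Q' : Finset (Finset GolayPt)} (hQ : Q ∈ quartets (ptsMask dod0))
    (hQ' : Q' ∈ quartets (ptsMask dod0)) : ∃ g ∈ stabMask dod0, g • Q = Q' :=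
  exists_smul_of_checkK (quartets (ptsMask dod0)) quartKs 220 exists_flatK_of_mem_quartets
    (stabMask dod0) dodGenWords dodGenWords_mem (fun _ => true) cert12_ok hQ hQ'
    (fun _ _ _ => rfl) (fun _ _ _ => rfl)

theorem quartList_nodup : quartList.Nodup := by
  apply nodup_of_incr_hash2
  decide +kernel

theorem quartList_length : quartList.length = 220 := by decide +kernel

/-- the standard dodecad has `220` quartets -/
theorem ncard_quartets_dod0 : (quartets (ptsMask dod0)).ncard = 220 := by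
  have h := ncard_filter_keys (quartets (ptsMask dod0)) decL quartList
    (fun y hy => exists_key_of_mem_quartets hy) (fun k hk => decL_mem_quartets hk)
    (fun k hk k' hk' h => eq_of_decL_eq (keyOK_of_mem hk) (keyOK_of_mem hk') h) quartList_nodup
    (fun _ => True) (fun _ => true) (fun _ _ => by simp)
  have h2 : {o | o ∈ quartets (ptsMask dod0) ∧ True} = quartets (ptsMask dod0) := by
    ext o
    simp
  rw [h2] at h
  rw [h, List.filter_true, quartList_length]

/-- **a dodecad has `220` quartets** -/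
theorem ncard_quartets {d : Finset GolayPt} (hd : d ∈ dodecads) : (quartets d).ncard = 220 := by
  obtain ⟨g, hg, rfl⟩ := exists_M24_smul_ptsMask_dod0 hd
  have : quartets (g • ptsMask dod0) = (fun Q => g • Q) '' quartets (ptsMask dod0) := by
    ext Q
    rw [Set.mem_image]
    constructor
    · intro hQ
      refine ⟨g⁻¹ • Q, ?_, smul_inv_smul _ _⟩
      have := smul_mem_quartets (M24.inv_mem hg) hQ
      rwa [inv_smul_smul] at this
    · rintro ⟨Q0, hQ0, rfl⟩
      exact smul_mem_quartets hg hQ0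
  rw [this, Set.ncard_image_of_injective _ (MulAction.injective g), ncard_quartets_dod0]

/-- **the stabilizer of a dodecad is transitive on its quartets** -/
theorem exists_smul_quartet {d : Finset GolayPt} (hd : d ∈ dodecads) {Q Q' : Finset (Finset GolayPt)}
    (hQ : Q ∈ quartets d) (hQ' : Q' ∈ quartets d) :
    ∃ g : Equiv.Perm GolayPt, g ∈ M24 ∧ g • d = d ∧ g • Q = Q' := by
  obtain ⟨g0, hg0, rfl⟩ := exists_M24_smul_ptsMask_dod0 hd
  have hgi := M24.inv_mem hg0
  have h1 : g0⁻¹ • Q ∈ quartets (ptsMask dod0) := by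
    have := smul_mem_quartets hgi hQ
    rwa [inv_smul_smul] at this
  have h2 : g0⁻¹ • Q' ∈ quartets (ptsMask dod0) := by
    have := smul_mem_quartets hgi hQ'
    rwa [inv_smul_smul] at this
  obtain ⟨g, hg, e⟩ := exists_smul_quartet_dod0 h1 h2
  rw [mem_stabMask_iff_smul] at hg
  refine ⟨g0 * g * g0⁻¹, M24.mul_mem (M24.mul_mem hg0 hg.1) hgi, ?_, ?_⟩
  · rw [mul_smul, mul_smul, inv_smul_smul, hg.2]
  · rw [mul_smul, mul_smul, e, smul_inv_smul]

end Cfsg.Agent.Lib.H5.Quartet
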