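import Mathlib
import Cfsg.Agent.Lib.H5.Quartet.Trans
import Cfsg.Agent.Lib.H28.KeyClasses
import Cfsg.Agent.Lib.H28.SuborbitPack

/-!
# The orbits of a quartet stabilizer on the quartets of its dodecad
-/

set_option autoImplicit false
set_option linter.style.haveILetI false

open scoped Pointwise
open Cfsg

namespace Cfsg.Agent.Lib.H5.Quartet

open Cfsg.Agent.Lib.H28

/-! ### Class structure for equivariant families -/

section Generic

variable {G α β : Type*} [Group G] [MulAction G α] [MulAction G β]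

theorem orbit_stabilizer_eq_class' (F : α → Set β)
    (hF : ∀ (g : G) (a : α), ∀ x ∈ F a, g • x ∈ F (g • a))
    (inv : α → β → ℕ) (hinv : ∀ (g : G) (a : α) (x : β), inv (g • a) (g • x) = inv a x) (a : α)
    (htrans : ∀ x ∈ F a, ∀ y ∈ F a, inv a x = inv a y → ∃ g : G, g • a = a ∧ g • x = y)
    (x : β) (hx : x ∈ F a) :
    MulAction.orbit ↥(MulAction.stabilizer G a) x = {y | y ∈ F a ∧ inv a y = inv a x} := by
  ext y
  rw [Set.mem_ofPred_eq]
  constructor
  · rintro ⟨⟨h, hh⟩, rfl⟩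
    rw [MulAction.mem_stabilizer_iff] at hh
    refine ⟨?_, ?_⟩
    · have := hF h a x hx
      rwa [hh] at this
    · show inv a (h • x) = inv a x
      conv_lhs => rw [← hh]
      exact hinv h a x
  · rintro ⟨hy, hxy⟩
    obtain ⟨g, hga, hgx⟩ := htrans x hx y hy hxy.symm
    exact ⟨⟨g, MulAction.mem_stabilizer_iff.2 hga⟩, hgx⟩

theorem class_structure_smul' (F : α → Set β)
    (hF : ∀ (g : G) (a : α), ∀ x ∈ F a, g • x ∈ F (g • a))
    (inv : α → β → ℕ) (hinv : ∀ (g : G) (a : α) (x : β), inv (g • a) (g • x) = inv a x) (a0 : α)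
    (htrans : ∀ x ∈ F a0, ∀ y ∈ F a0, inv a0 x = inv a0 y → ∃ g : G, g • a0 = a0 ∧ g • x = y)
    (J : List ℕ) (n : ℕ → ℕ) (hn : ∀ j ∈ J, {y | y ∈ F a0 ∧ inv a0 y = j}.ncard = n j)
    (hpos : ∀ j ∈ J, 0 < n j) (hall : ∀ y ∈ F a0, inv a0 y ∈ J) (g0 : G) :
    (∀ j ∈ J, ∃ X ∈ F (g0 • a0), inv (g0 • a0) X = j ∧
      (MulAction.orbit ↥(MulAction.stabilizer G (g0 • a0)) X).ncard = n j) ∧
    (∀ X ∈ F (g0 • a0), MulAction.orbit ↥(MulAction.stabilizer G (g0 • a0)) X
      = {y | y ∈ F (g0 • a0) ∧ inv (g0 • a0) y = inv (g0 • a0) X}) ∧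
    (∀ y ∈ F (g0 • a0), inv (g0 • a0) y ∈ J) := by
  have hback : ∀ z ∈ F (g0 • a0), g0⁻¹ • z ∈ F a0 := by
    intro z hz
    have := hF g0⁻¹ _ z hz
    rwa [inv_smul_smul] at this
  have h1 : ∀ z : β, inv a0 (g0⁻¹ • z) = inv (g0 • a0) z := by
    intro z
    have := hinv g0 a0 (g0⁻¹ • z)
    rw [smul_inv_smul] at this
    exact this.symm
  have hT : ∀ x ∈ F (g0 • a0), ∀ y ∈ F (g0 • a0), inv (g0 • a0) x = inv (g0 • a0) y →
      ∃ g : G, g • (g0 • a0) = g0 • a0 ∧ g • x = y := by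
    intro x hx y hy hxy
    obtain ⟨g, hga, hgx⟩ := htrans (g0⁻¹ • x) (hback x hx) (g0⁻¹ • y) (hback y hy)
      (by rw [h1, h1, hxy])
    refine ⟨g0 * g * g0⁻¹, ?_, ?_⟩
    · rw [mul_smul, mul_smul, inv_smul_smul, hga]
    · rw [mul_smul, mul_smul, hgx, smul_inv_smul]
  have hO := orbit_stabilizer_eq_class' F hF inv hinv (g0 • a0) hT
  have hcount : ∀ j, {y | y ∈ F (g0 • a0) ∧ inv (g0 • a0) y = j}.ncard =
      {y | y ∈ F a0 ∧ inv a0 y = j}.ncard := by
    intro j
    have himg : {y | y ∈ F (g0 • a0) ∧ inv (g0 • a0) y = j} =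
        (fun y : β => g0 • y) '' {y | y ∈ F a0 ∧ inv a0 y = j} := by
      ext y
      rw [Set.mem_image, Set.mem_ofPred_eq]
      constructor
      · rintro ⟨hy, hj⟩
        refine ⟨g0⁻¹ • y, ⟨hback y hy, ?_⟩, smul_inv_smul _ _⟩
        rw [h1]; exact hj
      · rintro ⟨z, ⟨hz, hj⟩, rfl⟩
        exact ⟨hF g0 a0 z hz, by rw [hinv]; exact hj⟩
    rw [himg]
    exact Set.ncard_image_of_injective _ (MulAction.injective g0)
  refine ⟨?_, hO, ?_⟩
  · intro j hj
    have hc := hcount j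
    rw [hn j hj] at hc
    have hne : {y | y ∈ F (g0 • a0) ∧ inv (g0 • a0) y = j}.Nonempty := by
      apply Set.nonempty_of_ncard_ne_zero
      rw [hc]; exact (hpos j hj).ne'
    obtain ⟨X, hX, hXj⟩ := hne
    refine ⟨X, hX, hXj, ?_⟩
    rw [hO X hX, hXj, hc]
  · intro y hy
    rw [← h1]
    exact hall _ (hback y hy)

end Generic

/-! ### The standard quartet and words stabilizing it -/

/-- the key of the standard quartet `{0,1,2}, {3,4,12}, {8,9,13}, {6,16,18}` -/
def q0Key : List ℕ := [7, 4120, 8960, 327744]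

theorem q0Key_mem : q0Key ∈ quartList := by decide +kernel

theorem q0Key_ok : keyOK q0Key = true := by decide

/-- generators of the stabilizer of the standard quartet -/
def sGens : List (List ℕ) :=
  [[3, 4, 1, 2, 3, 1, 2, 0, 0, 3, 4, 1, 2, 3, 1, 2, 0, 0, 4, 4],
   [4, 4, 4, 1, 2, 3, 1, 2, 0, 0, 4, 1, 2, 3, 1, 2, 0, 0, 3, 1, 1, 2, 0, 4, 2, 0, 3, 4]]

/-- a word preserves the standard dodecad and the standard quartet -/
def inS0 (w : List ℕ) : Bool :=
  presCheck w dod0 && sameL (q0Key.map (pullMask (wordTab (invWord w)))) q0Key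

theorem smul_of_inS0 {w : List ℕ} (h : inS0 w = true) :
    wordPerm w ∈ M24 ∧ wordPerm w • ptsMask dod0 = ptsMask dod0 ∧
      wordPerm w • decL q0Key = decL q0Key := by
  unfold inS0 at h
  rw [Bool.and_eq_true] at h
  have h1 := mem_stabMask_iff_smul.mp (wordPerm_mem_stabMask h.1)
  exact ⟨h1.1, h1.2, wordPerm_smul_decL_of_sameL h.2⟩

theorem sGens_inS0 : ∀ w ∈ sGens, inS0 w = true := by decide +kernel

/-- the standard pair (dodecad, quartet) -/
def a0 : Finset GolayPt × Finset (Finset GolayPt) := (ptsMask dod0, decL q0Key)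

/-- the invariant: intersection pattern with the quartet -/
def qInv (a : Finset GolayPt × Finset (Finset GolayPt)) (X : Finset (Finset GolayPt)) : ℕ :=
  pairInv a.2 X

theorem qInv_smul (g : ↥M24) (a : Finset GolayPt × Finset (Finset GolayPt))
    (X : Finset (Finset GolayPt)) : qInv (g • a) (g • X) = qInv a X :=
  pairInv_smul (g : Equiv.Perm GolayPt) a.2 X

theorem qInv_decL : ∀ k ∈ flatK quartKs 220, qInv a0 (decL k) = pairInvK q0Key k := by
  intro k hk
  rw [flatK_quartKs] at hk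
  exact pairInv_decL q0Key_ok (keyOK_of_mem hk)

theorem sGens_smul : ∀ w ∈ sGens, wordPerm w • a0 = a0 := by
  intro w hw
  obtain ⟨-, h1, h2⟩ := smul_of_inS0 (sGens_inS0 w hw)
  exact Prod.ext h1 h2

def qClasses : List ℕ := [4012, 1096, 448, 367, 205]

def qSizes (j : ℕ) : ℕ :=
  if j = 4012 then 1 else if j = 1096 then 12 else if j = 448 then 27 else if j = 367 then 72
  else if j = 205 then 108 else 0

theorem qClasses_all : (flatK quartKs 220).all (fun k => qClasses.contains (pairInvK q0Key k)) = true := by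
  decide +kernel

def certA : List (ℕ × ℕ × ℕ) := [(0, 0, 3), (0, 1, 67), (3, 1, 63), (67, 0, 148), (63, 0, 95), (63, 1, 1), (148, 0, 195), (148, 1, 101), (95, 0, 160), (1, 1, 199), (101, 0, 114)]

def certB : List (ℕ × ℕ × ℕ) := [(5, 0, 176), (5, 1, 180), (176, 0, 42), (176, 1, 170), (180, 1, 13), (42, 0, 17), (170, 0, 46), (170, 1, 86), (13, 0, 76), (13, 1, 50), (17, 0, 130), (17, 1, 178), (46, 0, 25), (46, 1, 29), (86, 0, 216), (86, 1, 85), (76, 1, 136), (50, 0, 22), (50, 1, 10), (178, 0, 32), (25, 0, 134), (25, 1, 209), (29, 1, 113), (136, 1, 81), (32, 1, 154), (113, 0, 37)]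

def certC : List (ℕ × ℕ × ℕ) := [(6, 0, 153), (6, 1, 179), (153, 0, 40), (153, 1, 36), (179, 0, 68), (179, 1, 15), (40, 0, 19), (40, 1, 202), (36, 0, 125), (36, 1, 88), (68, 0, 145), (68, 1, 192), (15, 0, 217), (15, 1, 187), (19, 0, 132), (19, 1, 177), (125, 0, 171), (125, 1, 206), (88, 0, 204), (88, 1, 30), (145, 0, 186), (145, 1, 99), (192, 0, 172), (192, 1, 131), (217, 0, 51), (217, 1, 166), (187, 1, 8), (132, 1, 28), (177, 0, 72), (177, 1, 26), (171, 0, 38), (171, 1, 52), (206, 0, 49), (206, 1, 193), (204, 0, 188), (204, 1, 212), (30, 0, 191), (30, 1, 110), (186, 0, 87), (99, 1, 201), (172, 0, 174), (172, 1, 137), (131, 0, 78), (51, 0, 20), (51, 1, 77), (166, 0, 189), (166, 1, 82), (8, 0, 214), (8, 1, 184), (28, 1, 112), (72, 0, 150), (26, 0, 56), (38, 0, 190), (49, 0, 21), (188, 0, 83), (191, 0, 33), (110, 0, 90), (201, 0, 12), (174, 0, 168), (78, 0, 7), (78, 1, 43), (189, 1, 207), (82, 0, 181), (214, 0, 45), (214, 1, 194), (112, 0, 44), (112, 1,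 34), (56, 0, 182), (21, 1, 27), (90, 0, 9), (43, 0, 16)]

def certD : List (ℕ × ℕ × ℕ) := [(4, 0, 126), (4, 1, 57), (126, 0, 41), (126, 1, 169), (57, 0, 61), (57, 1, 14), (41, 0, 18), (41, 1, 53), (169, 0, 107), (169, 1, 64), (61, 0, 159), (61, 1, 91), (14, 0, 197), (14, 1, 116), (18, 0, 60), (18, 1, 69), (53, 0, 161), (53, 1, 218), (107, 0, 128), (107, 1, 109), (64, 0, 123), (64, 1, 74), (159, 0, 162), (159, 1, 119), (91, 0, 163), (91, 1, 105), (197, 0, 48), (197, 1, 59), (116, 0, 92), (116, 1, 11), (60, 0, 210), (60, 1, 175), (69, 0, 97), (69, 1, 24), (161, 0, 157), (161, 1, 138), (218, 0, 185), (218, 1, 103), (128, 0, 54), (128, 1, 208), (109, 0, 96), (109, 1, 144), (123, 0, 124), (123, 1, 143), (74, 0, 151), (74, 1, 133), (162, 0, 140), (119, 0, 219), (119, 1, 102), (105, 0, 79), (105, 1, 127), (48, 0, 23), (48, 1, 94), (59, 0, 213), (59, 1, 80), (92, 0, 121), (92, 1, 104), (11, 0, 167), (11, 1, 200), (210, 1, 73), (97, 1, 98), (24, 1, 196), (157,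 1, 158), (138, 0, 62), (138, 1, 108), (185, 1, 75), (103, 0, 100), (103, 1, 93), (208, 1, 120), (96, 1, 149), (144, 0, 39), (124, 0, 84), (124, 1, 55), (151, 0, 35), (151, 1, 66), (133, 0, 211), (133, 1, 164), (140, 0, 142), (127, 1, 152), (23, 0, 135), (80, 0, 205), (80, 1, 173), (121, 1, 156), (104, 0, 118), (167, 0, 47), (167, 1, 129), (73, 0, 89), (98, 0, 155), (98, 1, 139), (158, 1, 65), (108, 0, 198), (108, 1, 115), (75, 1, 165), (100, 0, 117), (93, 1, 147), (39, 0, 71), (211, 1, 58), (152, 1, 203), (205, 1, 183), (118, 1, 122), (47, 1, 70), (89, 1, 106), (155, 1, 215), (198, 1, 31), (115, 1, 146), (58, 0, 141), (31, 1, 111)]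

theorem certZ_ok : checkK (wordTis sGens) quartKs 2 []
    ((List.range 220).filter (fun i => pairInvK q0Key (getK quartKs i) == 4012)) = true := by
  decide +kernel

theorem certA_ok : checkK (wordTis sGens) quartKs 0 certA
    ((List.range 220).filter (fun i => pairInvK q0Key (getK quartKs i) == 1096)) = true := by
  decide +kernel

theorem certB_ok : checkK (wordTis sGens) quartKs 5 certB
    ((List.range 220).filter (fun i => pairInvK q0Key (getK quartKs i) == 448)) = true := by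
  decide +kernel

theorem certC_ok : checkK (wordTis sGens) quartKs 6 certC
    ((List.range 220).filter (fun i => pairInvK q0Key (getK quartKs i) == 367)) = true := by
  decide +kernel

theorem certD_ok : checkK (wordTis sGens) quartKs 4 certD
    ((List.range 220).filter (fun i => pairInvK q0Key (getK quartKs i) == 205)) = true := by
  decide +kernel

theorem qCounts : ∀ j ∈ qClasses,
    ((flatK quartKs 220).filter (fun k => pairInvK q0Key k == j)).length = qSizes j := by
  decide +kernel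

end Cfsg.Agent.Lib.H5.Quartet
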