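import Mathlib
import Cfsg.Agent.Lib.H5.Quartet.Orbits

/-!
# The five orbits of a quartet stabilizer on the quartets of its dodecad
-/

set_option autoImplicit false
set_option linter.style.haveILetI false

open scoped Pointwise
open Cfsg

namespace Cfsg.Agent.Lib.H5.Quartet

open Cfsg.Agent.Lib.H28

theorem flatK_nodup : (flatK quartKs 220).Nodup := by
  rw [flatK_quartKs]
  exact quartList_nodup

theorem qTrans : ∀ x ∈ quartets (ptsMask dod0), ∀ y ∈ quartets (ptsMask dod0),
    qInv a0 x = qInv a0 y → ∃ g : ↥M24, g • a0 = a0 ∧ g • x = y := by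
  apply class_trans_of_certs a0 (quartets (ptsMask dod0)) quartKs 220 exists_flatK_of_mem_quartets
    qInv (pairInvK q0Key) qInv_decL sGens sGens_smul qClasses qClasses_all
  intro j hj
  unfold qClasses at hj
  simp only [List.mem_cons, List.not_mem_nil, or_false] at hj
  rcases hj with rfl | rfl | rfl | rfl | rfl
  · exact ⟨2, [], certZ_ok⟩
  · exact ⟨0, certA, certA_ok⟩
  · exact ⟨5, certB, certB_ok⟩
  · exact ⟨6, certC, certC_ok⟩
  · exact ⟨4, certD, certD_ok⟩

theorem qNcard : ∀ j ∈ qClasses,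
    {y | y ∈ quartets (ptsMask dod0) ∧ qInv a0 y = j}.ncard = qSizes j := by
  intro j hj
  rw [class_ncard_of_keys a0 (quartets (ptsMask dod0)) quartKs 220 exists_flatK_of_mem_quartets
    (fun k hk => by rw [flatK_quartKs] at hk; exact decL_mem_quartets hk)
    (fun k hk k' hk' h => by
      rw [flatK_quartKs] at hk hk'
      exact eq_of_decL_eq (keyOK_of_mem hk) (keyOK_of_mem hk') h)
    flatK_nodup qInv (pairInvK q0Key) qInv_decL j]
  exact qCounts j hj

theorem qPos : ∀ j ∈ qClasses, 0 < qSizes j := by decide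

theorem qAll : ∀ y ∈ quartets (ptsMask dod0), qInv a0 y ∈ qClasses :=
  class_mem_of_keys a0 (quartets (ptsMask dod0)) quartKs 220 exists_flatK_of_mem_quartets
    qInv (pairInvK q0Key) qInv_decL qClasses qClasses_all

theorem quartet_class_structure (g0 : ↥M24) :
    (∀ j ∈ qClasses, ∃ X ∈ quartets (g0 • a0).1, qInv (g0 • a0) X = j ∧
      (MulAction.orbit ↥(MulAction.stabilizer ↥M24 (g0 • a0)) X).ncard = qSizes j) ∧
    (∀ X ∈ quartets (g0 • a0).1, MulAction.orbit ↥(MulAction.stabilizer ↥M24 (g0 • a0)) X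
      = {y | y ∈ quartets (g0 • a0).1 ∧ qInv (g0 • a0) y = qInv (g0 • a0) X}) ∧
    (∀ y ∈ quartets (g0 • a0).1, qInv (g0 • a0) y ∈ qClasses) :=
  class_structure_smul' (G := ↥M24) (fun a => quartets a.1)
    (fun g a x hx => smul_mem_quartets g.2 hx) qInv qInv_smul a0 qTrans qClasses qSizes qNcard qPos
    qAll g0

theorem stabilizer_pair (d : Finset GolayPt) (Q : Finset (Finset GolayPt)) :
    MulAction.stabilizer ↥M24 ((d, Q) : Finset GolayPt × Finset (Finset GolayPt)) =
      MulAction.stabilizer ↥M24 d ⊓ MulAction.stabilizer ↥M24 Q := by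
  ext g
  rw [Subgroup.mem_inf, MulAction.mem_stabilizer_iff, MulAction.mem_stabilizer_iff,
    MulAction.mem_stabilizer_iff]
  constructor
  · intro h
    exact ⟨congrArg Prod.fst h, congrArg Prod.snd h⟩
  · rintro ⟨h1, h2⟩
    exact Prod.ext h1 h2

/-- every (dodecad, quartet) pair is the image of the standard one -/
theorem exists_smul_a0 {d : Finset GolayPt} (hd : d ∈ dodecads) {Q : Finset (Finset GolayPt)}
    (hQ : Q ∈ quartets d) : ∃ g0 : ↥M24, g0 • a0 = (d, Q) := by
  obtain ⟨g1, hg1, rfl⟩ := exists_M24_smul_ptsMask_dod0 hd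
  have hQ' : g1⁻¹ • Q ∈ quartets (ptsMask dod0) := by
    have := smul_mem_quartets (M24.inv_mem hg1) hQ
    rwa [inv_smul_smul] at this
  obtain ⟨g2, hg2, e⟩ := exists_smul_quartet_dod0 (decL_mem_quartets q0Key_mem) hQ'
  rw [mem_stabMask_iff_smul] at hg2
  refine ⟨⟨g1 * g2, M24.mul_mem hg1 hg2.1⟩, ?_⟩
  apply Prod.ext
  · show (g1 * g2) • ptsMask dod0 = g1 • ptsMask dod0
    rw [mul_smul, hg2.2]
  · show (g1 * g2) • decL q0Key = Q
    rw [mul_smul, e, smul_inv_smul]

theorem qInv_self : qInv a0 (decL q0Key) = 4012 := by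
  rw [qInv_decL q0Key (by rw [flatK_quartKs]; exact q0Key_mem)]
  decide +kernel

/-- **a quartet stabilizer has five orbits on the quartets of its dodecad,
of sizes `1, 12, 27, 72, 108`** -/
theorem orbits_quartet_stabilizer {d : Finset GolayPt} (hd : d ∈ dodecads)
    {Q : Finset (Finset GolayPt)} (hQ : Q ∈ quartets d) :
    ∃ X₁ ∈ quartets d, ∃ X₂ ∈ quartets d, ∃ X₃ ∈ quartets d, ∃ X₄ ∈ quartets d,
      (MulAction.orbit ↥(MulAction.stabilizer M24 d ⊓ MulAction.stabilizer M24 Q) X₁).ncard = 12 ∧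
      (MulAction.orbit ↥(MulAction.stabilizer M24 d ⊓ MulAction.stabilizer M24 Q) X₂).ncard = 27 ∧
      (MulAction.orbit ↥(MulAction.stabilizer M24 d ⊓ MulAction.stabilizer M24 Q) X₃).ncard = 72 ∧
      (MulAction.orbit ↥(MulAction.stabilizer M24 d ⊓ MulAction.stabilizer M24 Q) X₄).ncard = 108 ∧
      quartets d = {Q} ∪
        MulAction.orbit ↥(MulAction.stabilizer M24 d ⊓ MulAction.stabilizer M24 Q) X₁ ∪
        MulAction.orbit ↥(MulAction.stabilizer M24 d ⊓ MulAction.stabilizer M24 Q) X₂ ∪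
        MulAction.orbit ↥(MulAction.stabilizer M24 d ⊓ MulAction.stabilizer M24 Q) X₃ ∪
        MulAction.orbit ↥(MulAction.stabilizer M24 d ⊓ MulAction.stabilizer M24 Q) X₄ := by
  obtain ⟨g0, hg0⟩ := exists_smul_a0 hd hQ
  obtain ⟨h1, h2, h3⟩ := quartet_class_structure g0
  have hx0 : qInv (g0 • a0) Q = 4012 := by
    have hQe : Q = g0 • decL q0Key := (congrArg Prod.snd hg0).symm
    rw [hQe, qInv_smul, qInv_self]
  rw [hg0] at h1 h2 h3 hx0
  have key := pack4s (G := ↥M24) (quartets d) qInv ((d, Q) : Finset GolayPt × Finset (Finset GolayPt))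
    4012 1096 448 367 205 qSizes Q hQ hx0 rfl h1 h2 h3
  rw [stabilizer_pair] at key
  exact key

end Cfsg.Agent.Lib.H5.Quartet
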