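import Mathlib
import Cfsg.Agent.Lib.H5.Quartet.OrbitsMain
import Cfsg.Agent.Lib.H28.WordChain

/-!
# The stabilizer of a quartet: order `432`, generators, transitivity on the dodecad
-/

set_option autoImplicit false
set_option linter.style.haveILetI false

open scoped Pointwise
open Cfsg

namespace Cfsg.Agent.Lib.H5.Quartet

open Cfsg.Agent.Lib.H28

/-- **the stabilizer of a dodecad and a quartet has order `432`** -/
theorem card_stab_quartet {d : Finset GolayPt} (hd : d ∈ dodecads) {Q : Finset (Finset GolayPt)}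
    (hQ : Q ∈ quartets d) :
    Nat.card ↥(MulAction.stabilizer M24 d ⊓ MulAction.stabilizer M24 Q) = 432 := by
  have h1 := card_eq_orbit_mul_stab (G := M24) (MulAction.stabilizer M24 d) Q
  have h2 : {y | ∃ h ∈ MulAction.stabilizer M24 d, h • Q = y} = quartets d := by
    ext y
    simp only [Set.mem_ofPred_eq]
    constructor
    · rintro ⟨h, hh, rfl⟩
      rw [MulAction.mem_stabilizer_iff] at hh
      have := smul_mem_quartets h.2 hQ
      have e : (h : Equiv.Perm GolayPt) • d = d := hh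
      rwa [e] at this
    · intro hy
      obtain ⟨g, hg, hgd, hgQ⟩ := exists_smul_quartet hd hQ hy
      exact ⟨⟨g, hg⟩, hgd, hgQ⟩
  rw [h2, ncard_quartets hd, card_stabilizer_dodecad hd] at h1
  omega

/-- the stabilizer of the standard dodecad and the standard quartet, as a permutation group -/
noncomputable def S0 : Subgroup (Equiv.Perm GolayPt) :=
  stabMask dod0 ⊓ MulAction.stabilizer (Equiv.Perm GolayPt) (decL q0Key)

theorem mem_S0 {g : Equiv.Perm GolayPt} :
    g ∈ S0 ↔ g ∈ M24 ∧ g • ptsMask dod0 = ptsMask dod0 ∧ g • decL q0Key = decL q0Key := by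
  unfold S0
  rw [Subgroup.mem_inf, mem_stabMask_iff_smul]
  constructor
  · rintro ⟨⟨h1, h2⟩, h3⟩
    exact ⟨h1, h2, MulAction.mem_stabilizer_iff.mp h3⟩
  · rintro ⟨h1, h2, h3⟩
    exact ⟨⟨h1, h2⟩, MulAction.mem_stabilizer_iff.mpr h3⟩

theorem S0_le_M24 : S0 ≤ M24 := fun _ hg => (mem_S0.mp hg).1

theorem wordPerm_mem_S0 {w : List ℕ} (h : inS0 w = true) : wordPerm w ∈ S0 :=
  mem_S0.mpr (smul_of_inS0 h)

/-- conjugation identifies any quartet stabilizer with the standard one -/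
noncomputable def stabEquiv {d : Finset GolayPt} {Q : Finset (Finset GolayPt)} (g : ↥M24)
    (hg : g • a0 = (d, Q)) :
    ↥(MulAction.stabilizer M24 d ⊓ MulAction.stabilizer M24 Q) ≃* ↥S0 :=
  subgroupConjEquiv g.2 _ S0 S0_le_M24 (by
    intro x
    have hd : (g : Equiv.Perm GolayPt) • ptsMask dod0 = d := congrArg Prod.fst hg
    have hQ : (g : Equiv.Perm GolayPt) • decL q0Key = Q := congrArg Prod.snd hg
    rw [Subgroup.mem_inf, MulAction.mem_stabilizer_iff, MulAction.mem_stabilizer_iff, mem_S0]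
    have e1 : x • d = (x : Equiv.Perm GolayPt) • d := rfl
    have e2 : x • Q = (x : Equiv.Perm GolayPt) • Q := rfl
    rw [e1, e2, ← hd, ← hQ]
    constructor
    · rintro ⟨h1, h2⟩
      refine ⟨M24.mul_mem (M24.mul_mem (M24.inv_mem g.2) x.2) g.2, ?_, ?_⟩
      · rw [mul_smul, mul_smul, h1, inv_smul_smul]
      · rw [mul_smul, mul_smul, h2, inv_smul_smul]
    · rintro ⟨-, h1, h2⟩
      constructor
      · rw [mul_smul, mul_smul] at h1
        have := congrArg (fun s => (g : Equiv.Perm GolayPt) • s) h1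
        simpa using this
      · rw [mul_smul, mul_smul] at h2
        have := congrArg (fun s => (g : Equiv.Perm GolayPt) • s) h2
        simpa using this)

theorem stabEquiv_apply {d : Finset GolayPt} {Q : Finset (Finset GolayPt)} (g : ↥M24)
    (hg : g • a0 = (d, Q)) (x : ↥(MulAction.stabilizer M24 d ⊓ MulAction.stabilizer M24 Q)) :
    ((stabEquiv g hg x : ↥S0) : Equiv.Perm GolayPt) =
      (g : Equiv.Perm GolayPt)⁻¹ * ((x : ↥M24) : Equiv.Perm GolayPt) * (g : Equiv.Perm GolayPt) := rfl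

theorem card_S0 : Nat.card S0 = 432 := by
  have h1 : (1 : ↥M24) • a0 = (ptsMask dod0, decL q0Key) := one_smul _ _
  rw [← Nat.card_congr (stabEquiv 1 h1).toEquiv]
  exact card_stab_quartet ptsMask_dod0_mem (decL_mem_quartets q0Key_mem)

/-! ### Generation -/

def sChain : List (ℕ × List (List ℕ)) :=
  [(0, [[], [0], [3, 3], [2, 3], [2, 1, 0], [0, 3], [1], [1, 0], [2, 1], [3], [0, 1, 0], [0, 1]]),
   (3, [[], [3, 3, 0, 0, 0], [0, 0], [2, 1, 1, 0, 0], [2, 2], [0, 1, 1, 0, 0], [0, 1, 1], [2, 1, 1],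
     [3, 3, 2]]),
   (6, [[], [3, 2, 1, 0, 1, 0], [3, 0, 3, 0, 0, 1], [0, 0, 3, 3, 0]])]

theorem sGens_mem : ∀ w ∈ sGens, wordPerm w ∈ S0 := fun w hw => wordPerm_mem_S0 (sGens_inS0 w hw)

theorem sChain_ok : chainCheck [] (metaChain sGens sChain) = true := by decide +kernel

theorem wordsClosure_sGens : wordsClosure sGens = S0 := by
  apply wordsClosure_eq_of_chain S0 sGens sChain sGens_mem sChain_ok
  rw [card_S0]
  decide

/-! ### Transitivity on the dodecad -/

/-- words of the stabilizer moving the point `0` to the points of the dodecad -/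
def ptWords : List (List ℕ) :=
  ([[], [0], [3, 3], [2, 3], [2, 1, 0], [0, 3], [1], [1, 0], [2, 1], [3], [0, 1, 0], [0, 1]] :
    List (List ℕ)).map (metaFlat sGens)

theorem ptWords_inS0 : ptWords.all inS0 = true := by decide +kernel

theorem ptWords_ok : d0Idx.all (fun k => ptWords.any (fun w => evalPt w 0 == k)) = true := by
  decide +kernel

theorem exists_S0_map_zero {p : GolayPt} (hp : p ∈ ptsMask dod0) : ∃ g ∈ S0, g (gPt 0) = p := by
  have hk := mem_d0Idx_of_testBit _ (gIdx_lt p) (mem_ptsMask.mp hp)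
  have := List.all_eq_true.mp ptWords_ok _ hk
  rw [List.any_eq_true] at this
  obtain ⟨w, hw, hwk⟩ := this
  rw [beq_iff_eq] at hwk
  refine ⟨wordPerm w, wordPerm_mem_S0 (List.all_eq_true.mp ptWords_inS0 w hw), ?_⟩
  apply gIdx_injective
  rw [gIdx_wordPerm, gIdx_gPt (by norm_num)]
  exact hwk

theorem exists_S0_map {p q : GolayPt} (hp : p ∈ ptsMask dod0) (hq : q ∈ ptsMask dod0) :
    ∃ g ∈ S0, g p = q := by
  obtain ⟨g1, hg1, e1⟩ := exists_S0_map_zero hp
  obtain ⟨g2, hg2, e2⟩ := exists_S0_map_zero hq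
  refine ⟨g2 * g1⁻¹, S0.mul_mem hg2 (S0.inv_mem hg1), ?_⟩
  rw [Equiv.Perm.mul_apply, ← e1, Equiv.Perm.inv_def, Equiv.symm_apply_apply, e2]

/-- **a quartet stabilizer is transitive on the dodecad** -/
theorem exists_stab_map {d : Finset GolayPt} (hd : d ∈ dodecads) {Q : Finset (Finset GolayPt)}
    (hQ : Q ∈ quartets d) {p q : GolayPt} (hp : p ∈ d) (hq : q ∈ d) :
    ∃ g ∈ (MulAction.stabilizer M24 d ⊓ MulAction.stabilizer M24 Q),
      ((g : ↥M24) : Equiv.Perm GolayPt) p = q := by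
  obtain ⟨g0, hg0⟩ := exists_smul_a0 hd hQ
  have hd0 : (g0 : Equiv.Perm GolayPt) • ptsMask dod0 = d := congrArg Prod.fst hg0
  have hback : ∀ z ∈ d, (g0 : Equiv.Perm GolayPt)⁻¹ z ∈ ptsMask dod0 := by
    intro z hz
    rw [← hd0, Finset.mem_smul_finset] at hz
    obtain ⟨y, hy, rfl⟩ := hz
    rw [Equiv.Perm.smul_def, Equiv.Perm.inv_def, Equiv.symm_apply_apply]
    exact hy
  obtain ⟨k, hk, e⟩ := exists_S0_map (hback p hp) (hback q hq)
  refine ⟨(stabEquiv g0 hg0).symm ⟨k, hk⟩, SetLike.coe_mem _, ?_⟩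
  have h1 := stabEquiv_apply g0 hg0 ((stabEquiv g0 hg0).symm ⟨k, hk⟩)
  rw [MulEquiv.apply_symm_apply] at h1
  generalize (((stabEquiv g0 hg0).symm ⟨k, hk⟩ : ↥(MulAction.stabilizer M24 d ⊓
      MulAction.stabilizer M24 Q)) : ↥M24).1 = X at h1 ⊢
  have h1' : k = (g0 : Equiv.Perm GolayPt)⁻¹ * X * (g0 : Equiv.Perm GolayPt) := h1
  have h2 : X = (g0 : Equiv.Perm GolayPt) * k * (g0 : Equiv.Perm GolayPt)⁻¹ := by
    rw [h1']
    group
  rw [h2, Equiv.Perm.mul_apply, Equiv.Perm.mul_apply, e, Equiv.Perm.inv_def, Equiv.apply_symm_apply]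

end Cfsg.Agent.Lib.H5.Quartet
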