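import Mathlib
import Cfsg.Agent.Lib.H5.Quartet.Stab

/-!
# The quartet stabilizer acts as the affine group of a plane of order `3`
on nine special tetrads; the linear part gives the quotient `GL₂(3)`
-/

set_option autoImplicit false
set_option linter.style.haveILetI false

open scoped Pointwise
open Cfsg

namespace Cfsg.Agent.Lib.H5.Quartet

open Cfsg.Agent.Lib.H28

/-- the nine special tetrads (transversals of the standard quartet) with their coordinates -/
def tetTab : List (ℕ × ZMod 3 × ZMod 3) :=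
  [(337, 0, 0), (12354, 0, 1), (588, 0, 2), (270345, 1, 0), (262674, 1, 1), (266500, 1, 2),
   (70145, 2, 0), (65802, 2, 1), (73748, 2, 2)]

def tetMasks : List ℕ := tetTab.map Prod.fst

/-- coordinates of a mask -/
def βm (m : ℕ) : Fin 2 → ZMod 3 := ![((tetTab.lookup m).getD (0, 0)).1, ((tetTab.lookup m).getD (0, 0)).2]

/-- coordinates of a set of points -/
def βS (τ : Finset GolayPt) : Fin 2 → ZMod 3 := βm (maskOfSet τ)

theorem tetMasks_lt : ∀ m ∈ tetMasks, m < 2 ^ 24 := by decide

theorem maskOfSet_ptsMask {m : ℕ} (hm : m < 2 ^ 24) : maskOfSet (ptsMask m) = m :=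
  ptsMask_inj (maskOfSet_lt _) hm (ptsMask_maskOfSet _)

theorem βS_ptsMask {m : ℕ} (hm : m ∈ tetMasks) : βS (ptsMask m) = βm m := by
  unfold βS
  rw [maskOfSet_ptsMask (tetMasks_lt m hm)]

/-- the permutation `h` acts on the special tetrads by the affine map `v ↦ A v + b` -/
def Aff (h : Equiv.Perm GolayPt) (A : Matrix (Fin 2) (Fin 2) (ZMod 3)) (b : Fin 2 → ZMod 3) : Prop :=
  ∀ m ∈ tetMasks, (∃ m' ∈ tetMasks, h • ptsMask m = ptsMask m') ∧
    βS (h • ptsMask m) = A.mulVec (βm m) + b

def affCheck (w : List ℕ) (a b c d e f : ZMod 3) : Bool :=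
  tetTab.all (fun t =>
    tetMasks.contains (pullMask (wordTab (invWord w)) t.1) &&
    (((tetTab.lookup (pullMask (wordTab (invWord w)) t.1)).getD (0, 0)) ==
      (a * t.2.1 + b * t.2.2 + e, c * t.2.1 + d * t.2.2 + f)))

theorem wordPerm_smul_ptsMask (w : List ℕ) (m : ℕ) :
    wordPerm w • ptsMask m = ptsMask (pullMask (wordTab (invWord w)) m) :=
  smul_ptsMask (wordPerm w) (wordTab (invWord w)) (fun p => by
    rw [← wordTab_spec, wordPerm_invWord, Equiv.Perm.inv_def]) m

theorem βm_eq : ∀ t ∈ tetTab, βm t.1 = ![t.2.1, t.2.2] := by decide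

theorem aff_of_affCheck {w : List ℕ} {a b c d e f : ZMod 3} (h : affCheck w a b c d e f = true) :
    Aff (wordPerm w) !![a, b; c, d] ![e, f] := by
  intro m hm
  unfold tetMasks at hm
  rw [List.mem_map] at hm
  obtain ⟨t, ht, rfl⟩ := hm
  have h1 := List.all_eq_true.mp h t ht
  rw [Bool.and_eq_true, List.contains_iff_mem, beq_iff_eq] at h1
  rw [wordPerm_smul_ptsMask]
  refine ⟨⟨_, h1.1, rfl⟩, ?_⟩
  rw [βS_ptsMask h1.1, βm_eq t ht]
  unfold βm
  rw [h1.2]
  ext i
  fin_cases i
  · simp [Matrix.mulVec, dotProduct, Fin.sum_univ_two]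
    ring
  · simp [Matrix.mulVec, dotProduct, Fin.sum_univ_two]
    ring

theorem aff_one : Aff 1 1 0 := by
  intro m hm
  rw [one_smul, Matrix.one_mulVec, add_zero]
  exact ⟨⟨m, hm, rfl⟩, βS_ptsMask hm⟩

theorem aff_mul {h h' : Equiv.Perm GolayPt} {A A' : Matrix (Fin 2) (Fin 2) (ZMod 3)}
    {b b' : Fin 2 → ZMod 3} (hh : Aff h A b) (hh' : Aff h' A' b') :
    Aff (h * h') (A * A') (A.mulVec b' + b) := by
  intro m hm
  obtain ⟨⟨m', hm', e'⟩, hβ'⟩ := hh' m hm
  obtain ⟨⟨m'', hm'', e''⟩, hβ''⟩ := hh m' hm'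
  rw [mul_smul, e']
  refine ⟨⟨m'', hm'', e''⟩, ?_⟩
  rw [hβ'', ← βS_ptsMask hm', ← e', hβ', Matrix.mulVec_add, Matrix.mulVec_mulVec, add_assoc]

theorem aff_unique {h : Equiv.Perm GolayPt} {A A' : Matrix (Fin 2) (Fin 2) (ZMod 3)}
    {b b' : Fin 2 → ZMod 3} (hA : Aff h A b) (hA' : Aff h A' b') : A = A' ∧ b = b' := by
  have key : ∀ m ∈ tetMasks, A.mulVec (βm m) + b = A'.mulVec (βm m) + b' := by
    intro m hm
    rw [← (hA m hm).2, ← (hA' m hm).2]
  have h0 := key 337 (by decide)
  have h1 := key 270345 (by decide)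
  have h2 := key 12354 (by decide)
  have e0 : βm 337 = 0 := by decide
  have e1 : βm 270345 = ![1, 0] := by decide
  have e2 : βm 12354 = ![0, 1] := by decide
  rw [e0, Matrix.mulVec_zero, Matrix.mulVec_zero, zero_add, zero_add] at h0
  subst h0
  rw [e1] at h1
  rw [e2] at h2
  refine ⟨?_, rfl⟩
  have h1' := add_right_cancel h1
  have h2' := add_right_cancel h2
  ext i j
  fin_cases j
  · have := congrFun h1' i
    simpa [Matrix.mulVec, dotProduct, Fin.sum_univ_two] using this
  · have := congrFun h2' i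
    simpa [Matrix.mulVec, dotProduct, Fin.sum_univ_two] using this

theorem sGens_aff : affCheck (sGens.getD 0 []) 2 2 0 2 1 1 = true ∧
    affCheck (sGens.getD 1 []) 1 0 2 2 2 1 = true := by decide +kernel

/-- every element of the stabilizer acts affinely -/
theorem exists_aff {h : Equiv.Perm GolayPt} (hh : h ∈ S0) :
    ∃ (A : Matrix (Fin 2) (Fin 2) (ZMod 3)) (b : Fin 2 → ZMod 3), Aff h A b := by
  have key : ∀ g ∈ wordsClosure sGens,
      ∃ (A : Matrix (Fin 2) (Fin 2) (ZMod 3)) (b : Fin 2 → ZMod 3), Aff g A b := by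
    intro g hg
    unfold wordsClosure at hg
    induction hg using Subgroup.closure_induction with
    | mem g hg =>
      obtain ⟨w, hw, rfl⟩ := hg
      unfold sGens at hw
      simp only [List.mem_cons, List.not_mem_nil, or_false] at hw
      rcases hw with rfl | rfl
      · exact ⟨_, _, aff_of_affCheck sGens_aff.1⟩
      · exact ⟨_, _, aff_of_affCheck sGens_aff.2⟩
    | one => exact ⟨1, 0, aff_one⟩
    | mul a b _ _ iha ihb =>
      obtain ⟨A, v, hA⟩ := iha
      obtain ⟨B, w, hB⟩ := ihb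
      exact ⟨_, _, aff_mul hA hB⟩
    | inv a _ iha =>
      obtain ⟨A, v, hA⟩ := iha
      have hpow : ∀ n : ℕ, ∃ (B : Matrix (Fin 2) (Fin 2) (ZMod 3)) (w : Fin 2 → ZMod 3),
          Aff (a ^ n) B w := by
        intro n
        induction n with
        | zero => rw [pow_zero]; exact ⟨1, 0, aff_one⟩
        | succ n ih =>
          obtain ⟨B, w, hB⟩ := ih
          rw [pow_succ]
          exact ⟨_, _, aff_mul hB hA⟩
      have hinv : a⁻¹ = a ^ (orderOf a - 1) := by
        apply inv_eq_of_mul_eq_one_right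
        rw [← pow_succ', Nat.sub_add_cancel (orderOf_pos a), pow_orderOf_eq_one]
      rw [hinv]
      exact hpow _
  rw [← wordsClosure_sGens] at hh
  exact key h hh

/-- the linear part -/
noncomputable def matOf (h : S0) : Matrix (Fin 2) (Fin 2) (ZMod 3) := (exists_aff h.2).choose

/-- the translation part -/
noncomputable def vecOf (h : S0) : Fin 2 → ZMod 3 := (exists_aff h.2).choose_spec.choose

theorem aff_spec (h : S0) : Aff (h : Equiv.Perm GolayPt) (matOf h) (vecOf h) :=
  (exists_aff h.2).choose_spec.choose_spec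

/-- the linear part as a homomorphism -/
noncomputable def matHom : S0 →* Matrix (Fin 2) (Fin 2) (ZMod 3) where
  toFun := matOf
  map_one' := (aff_unique (aff_spec 1) aff_one).1
  map_mul' a b := (aff_unique (aff_spec (a * b)) (aff_mul (aff_spec a) (aff_spec b))).1

/-- the homomorphism to `GL₂(3)` -/
noncomputable def glHom : S0 →* GL (Fin 2) (ZMod 3) := matHom.toHomUnits

theorem glHom_val (h : S0) : ((glHom h : GL (Fin 2) (ZMod 3)) : Matrix (Fin 2) (Fin 2) (ZMod 3)) =
    matOf h := rfl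

/-! ### The kernel -/

theorem tet_inter : ∀ k ∈ d0Idx, ∃ m1 ∈ tetMasks, ∃ m2 ∈ tetMasks, m1 &&& m2 = 2 ^ k := by
  decide +kernel

theorem βm_inj : ∀ m ∈ tetMasks, ∀ m' ∈ tetMasks, βm m = βm m' → m = m' := by decide +kernel

/-- an element of the stabilizer fixing all special tetrads is trivial -/
theorem eq_one_of_fix_tet {k : Equiv.Perm GolayPt} (hk : k ∈ S0)
    (hfix : ∀ m ∈ tetMasks, k • ptsMask m = ptsMask m) : k = 1 := by
  have hpt : ∀ i ∈ d0Idx, k (gPt i) = gPt i := by
    intro i hi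
    obtain ⟨m1, hm1, m2, hm2, e⟩ := tet_inter i hi
    have h1 : k • ptsMask (2 ^ i) = ptsMask (2 ^ i) := by
      rw [← e, ptsMask_and, Finset.smul_finset_inter, hfix m1 hm1, hfix m2 hm2]
    rw [ptsMask_two_pow (d0Idx_lt i hi), Finset.smul_finset_singleton] at h1
    exact Finset.singleton_injective h1
  have hS := mem_S0.mp hk
  have hmem : ∀ i ∈ d0Idx, gPt i ∈ ptsMask dod0 := by
    intro i hi
    rw [gPt_mem_ptsMask (d0Idx_lt i hi)]
    have : ∀ i ∈ d0Idx, dod0.testBit i = true := by decide +kernel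
    exact this i hi
  refine dodSharp_dod0 k hS.1 hS.2.1 ![gPt 0, gPt 1, gPt 2, gPt 3, gPt 4] ?_ ?_ ?_
  · intro i j hij
    fin_cases i <;> fin_cases j <;> first | rfl | (exfalso; revert hij; simp; exact gPt_ne (by norm_num) (by norm_num) (by norm_num))
  · intro i
    fin_cases i
    · exact hmem 0 (by decide)
    · exact hmem 1 (by decide)
    · exact hmem 2 (by decide)
    · exact hmem 3 (by decide)
    · exact hmem 4 (by decide)
  · intro i
    fin_cases i
    · exact hpt 0 (by decide)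
    · exact hpt 1 (by decide)
    · exact hpt 2 (by decide)
    · exact hpt 3 (by decide)
    · exact hpt 4 (by decide)

theorem vecOf_injOn_ker {h h' : S0} (hh : matOf h = 1) (hh' : matOf h' = 1)
    (hv : vecOf h = vecOf h') : h = h' := by
  have hA := aff_spec h
  have hA' := aff_spec h'
  rw [hh] at hA
  rw [hh', ← hv] at hA'
  have hagree : ∀ m ∈ tetMasks, (h : Equiv.Perm GolayPt) • ptsMask m =
      (h' : Equiv.Perm GolayPt) • ptsMask m := by
    intro m hm
    obtain ⟨⟨m1, hm1, e1⟩, hβ1⟩ := hA m hm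
    obtain ⟨⟨m2, hm2, e2⟩, hβ2⟩ := hA' m hm
    rw [e1, βS_ptsMask hm1] at hβ1
    rw [e2, βS_ptsMask hm2] at hβ2
    rw [e1, e2, βm_inj m1 hm1 m2 hm2 (hβ1.trans hβ2.symm)]
  have h1 : (h : Equiv.Perm GolayPt)⁻¹ * (h' : Equiv.Perm GolayPt) = 1 := by
    apply eq_one_of_fix_tet (S0.mul_mem (S0.inv_mem h.2) h'.2)
    intro m hm
    rw [mul_smul, ← hagree m hm, inv_smul_smul]
  apply Subtype.ext
  have := congrArg (fun x => (h : Equiv.Perm GolayPt) * x) h1
  simpa using this.symm

theorem card_GL23 : Nat.card (GL (Fin 2) (ZMod 3)) = 48 := by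
  rw [Matrix.card_GL_field, ZMod.card, Fin.prod_univ_two]
  norm_num

theorem card_ker_le : Nat.card glHom.ker ≤ 9 := by
  have hinj : Function.Injective (fun h : glHom.ker => vecOf h.1) := by
    intro h h' hv
    have e1 : matOf h.1 = 1 := by
      have := h.2
      rw [MonoidHom.mem_ker] at this
      rw [← glHom_val, this]
      rfl
    have e2 : matOf h'.1 = 1 := by
      have := h'.2
      rw [MonoidHom.mem_ker] at this
      rw [← glHom_val, this]
      rfl
    exact Subtype.ext (vecOf_injOn_ker e1 e2 hv)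
  have := Nat.card_le_card_of_injective _ hinj
  have h9 : Nat.card (Fin 2 → ZMod 3) = 9 := by
    rw [Nat.card_eq_fintype_card, Fintype.card_fun, ZMod.card, Fintype.card_fin]
    norm_num
  rwa [h9] at this

theorem card_ker_range : Nat.card glHom.ker = 9 ∧ Nat.card glHom.range = 48 := by
  have h1 : Nat.card glHom.ker * Nat.card glHom.range = 432 := by
    rw [← Subgroup.index_ker, Subgroup.card_mul_index, card_S0]
  have h2 := card_ker_le
  have h3 : Nat.card glHom.range ≤ 48 := by
    rw [← card_GL23]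
    exact Subgroup.card_le_card_group _
  have h4 : Nat.card glHom.ker = 9 := by
    by_contra hne
    have : Nat.card glHom.ker ≤ 8 := by omega
    have := Nat.mul_le_mul this h3
    omega
  rw [h4] at h1
  exact ⟨h4, by omega⟩

theorem glHom_surjective : Function.Surjective glHom := by
  rw [← MonoidHom.range_eq_top]
  apply Subgroup.eq_top_of_card_eq
  rw [card_ker_range.2, card_GL23]

/-- **the standard quartet stabilizer has a normal subgroup of order `9` with quotient `GL₂(3)`** -/
theorem exists_normal_S0 : ∃ (N : Subgroup ↥S0) (_ : N.Normal), Nat.card N = 9 ∧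
    Nonempty (↥S0 ⧸ N ≃* GL (Fin 2) (ZMod 3)) :=
  ⟨glHom.ker, inferInstance, card_ker_range.1,
    ⟨QuotientGroup.quotientKerEquivOfSurjective glHom glHom_surjective⟩⟩

end Cfsg.Agent.Lib.H5.Quartet
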