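import Mathlib
import Cfsg.Agent.Lib.H5.Quartet.Aff

/-!
# The structure of a quartet stabilizer: `3² : GL₂(3)`
-/

set_option autoImplicit false
set_option linter.style.haveILetI false

open scoped Pointwise
open Cfsg

namespace Cfsg.Agent.Lib.H5.Quartet

open Cfsg.Agent.Lib.H28

/-- transport of a normal subgroup with prescribed order and quotient along an isomorphism -/
theorem exists_normal_of_mulEquiv {A B X : Type*} [Group A] [Group B] [Group X] (e : B ≃* A) {n : ℕ}
    (h : ∃ (N : Subgroup A) (_ : N.Normal), Nat.card N = n ∧ Nonempty (A ⧸ N ≃* X)) :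
    ∃ (N : Subgroup B) (_ : N.Normal), Nat.card N = n ∧ Nonempty (B ⧸ N ≃* X) := by
  obtain ⟨N, hN, hn, ⟨f⟩⟩ := h
  have hN' : (N.map e.symm.toMonoidHom).Normal := hN.map _ e.symm.surjective
  refine ⟨N.map e.symm.toMonoidHom, hN', ?_, ?_⟩
  · rw [← hn]
    exact Nat.card_congr (e.symm.subgroupMap N).toEquiv.symm
  · have he : (N.map e.symm.toMonoidHom).map e.toMonoidHom = N := by
      rw [Subgroup.map_map]
      ext x
      simp
    exact ⟨(QuotientGroup.congr (N.map e.symm.toMonoidHom) N e he).trans f⟩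

/-- **a quartet stabilizer has a normal subgroup of order `9` with quotient `GL₂(3)`** -/
theorem exists_normal_stab_quartet {d : Finset GolayPt} (hd : d ∈ dodecads)
    {Q : Finset (Finset GolayPt)} (hQ : Q ∈ quartets d) :
    ∃ (N : Subgroup ↥(MulAction.stabilizer M24 d ⊓ MulAction.stabilizer M24 Q)) (_ : N.Normal),
      Nat.card N = 9 ∧ Nonempty (↥(MulAction.stabilizer M24 d ⊓ MulAction.stabilizer M24 Q) ⧸ N ≃*
        GL (Fin 2) (ZMod 3)) := by
  obtain ⟨g0, hg0⟩ := exists_smul_a0 hd hQ
  exact exists_normal_of_mulEquiv (stabEquiv g0 hg0) exists_normal_S0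

end Cfsg.Agent.Lib.H5.Quartet
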